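import Mathlib
import Cfsg.Agent.Lib.CharApps.Basic
import Cfsg.Agent.Lib.Chars.Char
import Cfsg.Agent.Lib.CharApps.Galois

/-!
# Multiplicities of eigenvalues and congruences between rational character values

For `z ^ 6 = 1` with `z` conjugate to `z⁻¹` the values at `z`, `z ^ 2` and `z ^ 3` are rational
integers, congruent modulo two respectively three.
-/

set_option autoImplicit false
set_option linter.style.haveILetI false
set_option linter.unusedSectionVars false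

namespace CfsgLib.CharsMore.NineTI

open Cfsg CfsgLib.Chars CfsgLib.CharApps

universe u

variable {G : Type u} [Group G]

/-- The multiplicity of an eigenvalue. -/
theorem exists_mult_root {χ : G → ℂ} (hχ : IsCharacter G χ) {z : G} {m : ℕ} [NeZero m]
    (hz : z ^ m = 1) {ζ : ℂ} (hζ : ζ ^ m = 1) :
    ∃ a : ℕ, ∑ i ∈ Finset.range m, ζ ^ i * χ (z ^ i) = (m : ℂ) * a := by
  obtain ⟨n, ρ, rfl⟩ := hχ
  have hm : (m : ℂ) ≠ 0 := Nat.cast_ne_zero.2 (NeZero.ne m)
  let f : ℕ → Module.End ℂ (Fin n → ℂ) := fun i => ζ ^ i • ρ (z ^ i)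
  let P : Module.End ℂ (Fin n → ℂ) := (m : ℂ)⁻¹ • ∑ i ∈ Finset.range m, f i
  have hf : ∀ i j, f i * f j = f (i + j) := fun i j => by
    simp only [f, smul_mul_assoc, mul_smul_comm, smul_smul, pow_add, map_mul]
    rw [mul_comm (ζ ^ j)]
  have hper : ∀ i, f (i % m) = f i := fun i => by
    have h1 : ζ ^ i = ζ ^ (i % m) := by
      conv_lhs => rw [← Nat.mod_add_div i m, pow_add, pow_mul, hζ, one_pow, mul_one]
    have h2 : z ^ i = z ^ (i % m) := by
      conv_lhs => rw [← Nat.mod_add_div i m, pow_add, pow_mul, hz, one_pow, mul_one]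
    show ζ ^ (i % m) • ρ (z ^ (i % m)) = ζ ^ i • ρ (z ^ i)
    rw [← h1, ← h2]
  have hshift : ∀ i, f i * ∑ j ∈ Finset.range m, f j = ∑ j ∈ Finset.range m, f j := fun i => by
    rw [Finset.mul_sum, ← Fin.sum_univ_eq_sum_range, ← Fin.sum_univ_eq_sum_range f m]
    refine Fintype.sum_equiv (Equiv.addLeft (Fin.ofNat m i)) _ _ fun j => ?_
    rw [hf, Equiv.coe_addLeft, Fin.val_add, Fin.val_ofNat, Nat.mod_add_mod, hper]
  have hPP : P * P = P := by
    simp only [P]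
    rw [smul_mul_assoc, mul_smul_comm, Finset.sum_mul, Finset.sum_congr rfl fun i _ => hshift i,
      Finset.sum_const, Finset.card_range, ← Nat.cast_smul_eq_nsmul ℂ, smul_smul, smul_smul]
    congr 1
    field_simp
  obtain ⟨a, ha⟩ : ∃ a : ℕ, LinearMap.trace ℂ _ P = (a : ℂ) :=
    ⟨_, (P.isProj_range_iff_isIdempotentElem.2 hPP).trace⟩
  refine ⟨a, ?_⟩
  rw [← ha]
  simp only [P, f, map_smul, map_sum, smul_eq_mul, mul_inv_cancel_left₀ hm]
  rfl

/-- A cube root of unity. -/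
theorem exists_cube_root : ∃ w : ℂ, w ^ 3 = 1 ∧ 1 + w + w ^ 2 = 0 :=
  ⟨Complex.exp (2 * Real.pi * Complex.I / 3),
    (Complex.isPrimitiveRoot_exp 3 (by norm_num)).pow_eq_one, by
    have h := (Complex.isPrimitiveRoot_exp 3 (by norm_num)).geom_sum_eq_zero (by norm_num)
    simpa [Finset.sum_range_succ] using h⟩

variable [Finite G]

/-- Rational integral values at a real element of order dividing six and at its powers. -/
theorem exists_vals_six (χ : IrrCharacter G) {z : G} (hz : z ^ 6 = 1) (hc : IsConj z z⁻¹) :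
    ∃ p x s : ℤ, (χ : G → ℂ) z = p ∧ (χ : G → ℂ) (z ^ 2) = x ∧ (χ : G → ℂ) (z ^ 3) = s ∧
      3 ∣ (charDegree (χ : G → ℂ) : ℤ) - x ∧ 2 ∣ x - p := by
  obtain ⟨c, hcz⟩ := isConj_iff.1 hc
  have hch := isCharacter_of_irr χ.2
  have h45 : (χ : G → ℂ) (z ^ 4) = (χ : G → ℂ) (z ^ 2) ∧ (χ : G → ℂ) (z ^ 5) = (χ : G → ℂ) z := by
    have e5 : z⁻¹ = z ^ 5 := inv_eq_of_mul_eq_one_right (by rw [← pow_succ', hz])
    refine ⟨?_, by rw [← e5, ← hcz, isClassFunction_irr χ]⟩
    rw [show z ^ 4 = c * z ^ 2 * c⁻¹ by rw [← conj_pow, hcz, e5, ← pow_mul,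
      show 5 * 2 = 6 + 4 by rfl, pow_add, hz, one_mul], isClassFunction_irr χ]
  obtain ⟨w, hw3, hw⟩ := exists_cube_root
  obtain ⟨a, ha⟩ := exists_mult_root hch hz (ζ := 1) (one_pow 6)
  obtain ⟨b, hb⟩ := exists_mult_root hch hz (ζ := -1) (by norm_num)
  obtain ⟨e, he⟩ := exists_mult_root hch hz (ζ := -w) (by
    linear_combination (w ^ 3 + 1) * hw3)
  have hw4 : w ^ 4 = w := by linear_combination w * hw3
  have hw5 : w ^ 5 = w ^ 2 := by linear_combination w ^ 2 * hw3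
  simp only [Finset.sum_range_succ, Finset.sum_range_zero, pow_zero, zero_add, one_pow, one_mul,
    neg_pow w, Nat.cast_ofNat, hw3, hw4, hw5, h45.1, h45.2, pow_one, mul_one, deg_eq χ] at ha hb he
  norm_num at ha hb he
  generalize (charDegree (χ : G → ℂ)) = n at ha hb he ⊢
  -- the values
  have hx : (χ : G → ℂ) (z ^ 2) = ((3 * (a : ℚ) + 3 * b - n) / 2 : ℚ) := by
    push_cast; linear_combination (ha + hb) / 4
  obtain ⟨x, hxq⟩ := exists_int_of_rat (char_isIntegral hch (z ^ 2)) ⟨_, hx.symm⟩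
  have he' : (n : ℂ) + (χ : G → ℂ) z - (χ : G → ℂ) (z ^ 2) - (χ : G → ℂ) (z ^ 3) = 6 * e := by
    linear_combination he + ((χ : G → ℂ) z - (χ : G → ℂ) (z ^ 2)) * hw
  have hp : (χ : G → ℂ) z = (x : ℂ) - 2 * ((b : ℂ) - e) := by
    rw [hxq]; linear_combination (he' - hb) / 3
  have hs : (χ : G → ℂ) (z ^ 3) = (3 * (a : ℂ) - 3 * b) - 2 * ((χ : G → ℂ) z) := by
    linear_combination (ha - hb) / 2
  refine ⟨x - 2 * ((b : ℤ) - e), x, 3 * (a : ℤ) - 3 * b - 2 * (x - 2 * ((b : ℤ) - e)), ?_,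
    hxq.symm, ?_, ⟨(a : ℤ) + b - x, ?_⟩, ⟨(b : ℤ) - e, by ring⟩⟩
  · rw [hp]; push_cast; ring
  · rw [hs, hp]; push_cast; ring
  · have h2 : ((n : ℤ) : ℂ) + 2 * (x : ℂ) = ((3 * a + 3 * b : ℤ) : ℂ) := by
      push_cast; rw [hxq]; linear_combination (ha + hb) / 2
    have h3 : (n : ℤ) + 2 * x = 3 * a + 3 * b := by exact_mod_cast h2
    linarith

/-- The trivial multiplicity on a subgroup. -/
theorem exists_sum_subgroup (χ : IrrCharacter G) (M : Subgroup G) [Fintype M] :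
    ∃ a : ℕ, ∑ m : M, (χ : G → ℂ) m = (Nat.card M : ℂ) * a := by
  classical
  obtain ⟨a, ha⟩ := Chars.inner_char_nat
    (Chars.isCharacter_restrict M (isCharacter_of_irr χ.2)) (Chars.isCharacter_one (G := M))
  refine ⟨a, ?_⟩
  have h0 : (Nat.card M : ℂ) ≠ 0 := Nat.cast_ne_zero.2 Nat.card_pos.ne'
  rw [Chars.inner_def, inv_mul_eq_iff_eq_mul₀ h0] at ha
  simpa only [map_one, mul_one] using ha

end CfsgLib.CharsMore.NineTI
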