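import Mathlib
import Cfsg.Agent.Lib.CharApps.SchurBound
import Cfsg.Agent.Lib.CharsMore.NineTI.Cols
import Cfsg.Agent.Lib.CharsMore.NineTI.Derive

/-!
# A group with normalizer `3² : D₈` of a Sylow `3`-subgroup is not simple

A rational character of degree at most five leaves order `720`, where an involution is an odd
permutation of the ten Sylow subgroups.
-/

set_option autoImplicit false
set_option linter.style.haveILetI false
set_option linter.unusedSectionVars false

open scoped Classical

namespace CfsgLib.CharsMore.NineTI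

open Cfsg CfsgLib.Chars CfsgLib.CharApps Subgroup

universe u

/-- The possible orders with bounded exponents of two, five and seven. -/
theorem order_small : ∀ a < 9, ∀ b < 2, (2 ^ a * 9 * 5 ^ b) % 648 = 72 →
    2 ^ a * 9 * 5 ^ b = 72 ∨ 2 ^ a * 9 * 5 ^ b = 720 := by decide +kernel

theorem order_seven : ∀ a < 12, ∀ b < 2, ∀ c < 2, (2 ^ a * 9 * 5 ^ b * 7 ^ c) % 648 = 72 →
    2 ^ a * 9 * 5 ^ b * 7 ^ c ≤ 129024 := by decide +kernel

/-- The action of an involution on ten points. -/
def shift (q1 : ZMod 3) : Equiv.Perm (Option (ZMod 3 × ZMod 3)) where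
  toFun o := o.map fun p => (-p.1, p.2) + (q1, 0)
  invFun o := o.map fun p => (-p.1, p.2) + (q1, 0)
  left_inv := by
    rintro (_ | ⟨x, y⟩)
    · rfl
    · simp
  right_inv := by
    rintro (_ | ⟨x, y⟩)
    · rfl
    · simp

theorem sign_shift : ∀ q1 : ZMod 3, Equiv.Perm.sign (shift q1) = -1 := by decide +kernel

variable {G : Type u} [Group G] [Fintype G]

/-- Schur's bound for a faithful rational character. -/
theorem factorization_le_of_rational (χ : IrrCharacter G)
    (hrat : ∀ σ : ℂ ≃+* ℂ, galoisIrr σ χ = χ)
    (hfaith : ∀ g : G, (χ : G → ℂ) g = (χ : G → ℂ) 1 → g = 1) {p : ℕ} (hp : p.Prime) :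
    (Nat.card G).factorization p ≤ ∑ i ∈ Finset.range (charDegree (χ : G → ℂ) + 1),
      charDegree (χ : G → ℂ) / ((p - 1) * p ^ i) := by
  haveI := Fact.mk hp
  obtain ⟨P⟩ := (inferInstance : Nonempty (Sylow p G))
  haveI := Fintype.ofFinite (P : Subgroup G)
  have h := SchurBound.factorization_le (P := (P : Subgroup G)) (p := p) P.isPGroup'
    (isCharacter_restrict (P : Subgroup G) (isCharacter_of_irr χ.2)) (n := charDegree (χ : G → ℂ))
    (by simpa using deg_eq χ)
    (fun g hg => Subtype.ext (hfaith g (by simpa using hg)))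
    (fun g k hk => by
      obtain ⟨i, hi⟩ := IsPGroup.iff_orderOf.1 P.isPGroup' g
      haveI : NeZero (orderOf (g : G)) := ⟨(orderOf_pos _).ne'⟩
      have hcop : k.Coprime (orderOf (g : G)) := by
        rw [Subgroup.orderOf_coe, hi]
        exact Nat.Coprime.pow_right _ ((hp.coprime_iff_not_dvd.2 hk).symm)
      obtain ⟨σ, hσ⟩ := exists_galois_pow _ hcop
      show (χ : G → ℂ) ((g : G) ^ k) = (χ : G → ℂ) (g : G)
      rw [← galois_apply σ hσ (isCharacter_of_irr χ.2) _ (pow_orderOf_eq_one _),
        ← galoisIrr_apply, hrat σ])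
  rwa [P.card_eq_multiplicity, hp.factorization_pow, Finsupp.single_eq_same] at h

variable {M : Subgroup G}

namespace D8

variable [IsSimpleGroup G] {e1 e2 r s : G} (H : Nine G M) (D : D8 M e1 e2 r s)
include H D

/-- The order is `720`. -/
theorem card_eq_720 : Nat.card G = 720 := by
  obtain ⟨χ, hχ, hrat, hdeg⟩ := exists_small H D
  have hone := Small.one_lt_charDegree (not_comm H D) hχ
  have hfaith : ∀ g : G, (χ : G → ℂ) g = (χ : G → ℂ) 1 → g = 1 := by
    intro g hg
    rcases (charKer_normal χ).eq_bot_or_eq_top with h | h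
    · rw [← mem_charKer, h, Subgroup.mem_bot] at hg; exact hg
    · exfalso
      have hall : ∀ k, (χ : G → ℂ) k = (χ : G → ℂ) 1 :=
        fun k => mem_charKer.1 (h ▸ Subgroup.mem_top k)
      have h1 := inner_irr_self χ
      rw [inner_def, Finset.sum_congr rfl fun k _ => by rw [hall k], Finset.sum_const,
        Finset.card_univ, nsmul_eq_mul, ← Nat.card_eq_fintype_card, ← mul_assoc,
        inv_mul_cancel₀ (card_ne_zero G), one_mul, deg_eq χ, map_natCast] at h1
      have h2 : charDegree (χ : G → ℂ) * charDegree (χ : G → ℂ) = 1 := by exact_mod_cast h1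
      exact absurd (Nat.eq_one_of_mul_eq_one_right h2) (by omega)
  have hn7 : charDegree (χ : G → ℂ) ≤ 7 := by rcases hdeg with h | ⟨h, -⟩ <;> omega
  have hbound := fun {p : ℕ} (hp : p.Prime) => factorization_le_of_rational χ hrat hfaith hp
  obtain ⟨k, hk⟩ := H.card_eq
  rw [card_normalizer H D] at hk
  have hmod : Nat.card G % 648 = 72 := by
    rw [hk, show (9 * k + 1) * 72 = 648 * k + 72 by ring, Nat.mul_add_mod]
  have hk0 : k ≠ 0 := by
    rintro rfl
    rw [mul_zero, zero_add, one_mul] at hk
    have htop : normalizer (M : Set G) = ⊤ :=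
      Subgroup.eq_top_of_card_eq _ (by rw [card_normalizer H D, hk])
    haveI : M.Normal := normalizer_eq_top_iff.1 htop
    rcases IsSimpleGroup.eq_bot_or_eq_top_of_normal M inferInstance with h | h
    · have := H.card; rw [h, Subgroup.card_bot] at this; omega
    · have := H.card; rw [h, Subgroup.card_top, hk] at this; omega
  have h3 : (Nat.card G).factorization 3 = 2 := by
    haveI := Fact.mk Nat.prime_three
    obtain ⟨P, hP⟩ := H.sylow
    have h := P.card_eq_multiplicity
    rw [← hP, H.card] at h
    exact (Nat.pow_right_injective (by norm_num : 2 ≤ 3)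
      (show 3 ^ 2 = 3 ^ (Nat.card G).factorization 3 from h)).symm
  generalize hn : charDegree (χ : G → ℂ) = n at hdeg hn7 hbound hone
  have hbig : ∀ p : ℕ, p.Prime → n + 1 < p → (Nat.card G).factorization p = 0 := by
    intro p hp hlt
    refine Nat.le_zero.1 ((hbound hp).trans (le_of_eq (Finset.sum_eq_zero fun i _ => ?_)))
    refine Nat.div_eq_of_lt ?_
    calc n < (p - 1) * 1 := by omega
      _ ≤ (p - 1) * p ^ i := Nat.mul_le_mul_left _ (Nat.one_le_pow _ _ hp.pos)
  have hfac : Nat.card G = 2 ^ (Nat.card G).factorization 2 * 9 * 5 ^ (Nat.card G).factorization 5 *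
      7 ^ (Nat.card G).factorization 7 := by
    rw [show (9 : ℕ) = 3 ^ 2 by rfl]
    refine Nat.eq_of_factorization_eq Nat.card_pos.ne' (by positivity) fun p => ?_
    simp only [Nat.factorization_mul, ne_eq, mul_eq_zero, pow_eq_zero_iff', OfNat.ofNat_ne_zero,
      false_and, or_self, not_false_eq_true, Finsupp.add_apply, Nat.prime_two.factorization_pow,
      Nat.prime_three.factorization_pow, Nat.prime_five.factorization_pow,
      (show Nat.Prime 7 by norm_num).factorization_pow]
    by_cases hp : p.Prime
    · by_cases e2 : p = 2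
      · subst e2; simp
      by_cases e3 : p = 3
      · subst e3; simp [h3, -Nat.card_eq_fintype_card]
      by_cases e5 : p = 5
      · subst e5; simp
      by_cases e7 : p = 7
      · subst e7; simp
      have h11 : 11 ≤ p := by
        by_contra hlt
        have := hp.two_le
        interval_cases p <;> first | omega | norm_num at hp
      have hz := hbig p hp (by omega)
      simp [Ne.symm e2, Ne.symm e3, Ne.symm e5, Ne.symm e7, -Nat.card_eq_fintype_card, hz]
    · simp [Nat.factorization_eq_zero_of_not_prime _ hp,
        show ¬ (2 : ℕ) = p from fun e => hp (e ▸ Nat.prime_two),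
        show ¬ (3 : ℕ) = p from fun e => hp (e ▸ Nat.prime_three),
        show ¬ (5 : ℕ) = p from fun e => hp (e ▸ Nat.prime_five),
        show ¬ (7 : ℕ) = p from fun e => hp (e ▸ by norm_num)]
  have h2 := hbound Nat.prime_two
  have h5 := hbound Nat.prime_five
  have h7 := hbound (show Nat.Prime 7 by norm_num)
  rcases hdeg with h | ⟨rfl, hlarge⟩
  · have e7 := hbig 7 (by norm_num) (by omega)
    rw [e7, pow_zero, mul_one] at hfac
    generalize (Nat.card G).factorization 2 = a at h2 hfac
    generalize (Nat.card G).factorization 5 = b at h5 hfac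
    have ha : a < 9 := by
      interval_cases n <;> norm_num [Finset.sum_range_succ] at h2 <;> omega
    have hb : b < 2 := by
      interval_cases n <;> norm_num [Finset.sum_range_succ] at h5 <;> omega
    rw [hfac] at hmod hk ⊢
    rcases order_small a ha b hb hmod with e | e
    · omega
    · exact e
  · generalize (Nat.card G).factorization 2 = a at h2 hfac
    generalize (Nat.card G).factorization 5 = b at h5 hfac
    generalize (Nat.card G).factorization 7 = c at h7 hfac
    norm_num [Finset.sum_range_succ] at h2 h5 h7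
    rw [hfac] at hmod hlarge
    have := order_seven a (by omega) b (by omega) c (by omega) hmod
    omega

/-- An involution of the normalizer acts as an odd permutation when the order is `720`. -/
theorem false_of_720 (h720 : Nat.card G = 720) : False := by
  let X := G ⧸ normalizer (M : Set G)
  have hX : Nat.card X = 10 := by
    have h := (normalizer (M : Set G)).index_mul_card
    rw [card_normalizer H D, h720, Subgroup.index_eq_card] at h
    show Nat.card (G ⧸ normalizer (M : Set G)) = 10
    omega
  let x0 : X := QuotientGroup.mk (1 : G)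
  let σ : G →* Equiv.Perm X := MulAction.toPermHom G X
  -- the other points form a regular orbit of `M`
  have hfix : ∀ (m : G) (g : G), m ∈ M → m • (g : X) = (g : X) → m = 1 ∨ (g : X) = x0 := by
    intro m g hm h
    rw [or_iff_not_imp_left]
    intro hm1
    have h' : (↑(m * g) : X) = (g : X) := h
    rw [QuotientGroup.eq] at h'
    have h1 : g⁻¹ * m * g⁻¹⁻¹ ∈ normalizer (M : Set G) := by
      have h2 := inv_mem h'
      simpa [mul_assoc] using h2
    have h2 : g⁻¹ * m * g⁻¹⁻¹ ∈ M := H.mem_of_cube h1 (by rw [conj_pow, H.exp m hm]; group)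
    refine (QuotientGroup.eq.2 ?_).symm
    simpa using inv_mem (H.mem_normalizer hm hm1 h2)
  have hM0 : ∀ m ∈ M, m • x0 = x0 := fun m hm =>
    QuotientGroup.eq.2 (by simpa using Subgroup.le_normalizer hm)
  obtain ⟨y, hy⟩ : ∃ y : X, y ≠ x0 := by
    haveI : Nontrivial X := Finite.one_lt_card_iff_nontrivial.1 (by rw [hX]; norm_num)
    exact exists_ne x0
  let f : Option (ZMod 3 × ZMod 3) → X := fun o => o.elim x0 fun p => coord e1 e2 p • y
  have hf : Function.Bijective f := by
    rw [Nat.bijective_iff_injective_and_card]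
    refine ⟨?_, by rw [hX, Nat.card_eq_fintype_card]; decide⟩
    have hne : ∀ p, coord e1 e2 p • y ≠ x0 := fun p e => hy (smul_left_cancel (coord e1 e2 p)
      (e.trans (hM0 _ (coord_mem H D p)).symm))
    rintro (_ | p) (_ | q) h
    · rfl
    · exact absurd h.symm (hne q)
    · exact absurd h (hne p)
    · simp only [f, Option.elim_some] at h
      obtain ⟨g, rfl⟩ := QuotientGroup.mk_surjective y
      have h' : coord e1 e2 (-q + p) • (g : X) = (g : X) := by
        rw [coord_add H D, mul_smul, h, ← mul_smul, ← coord_add H D, neg_add_cancel, coord_zero H D,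
          one_smul]
      rcases hfix _ g (coord_mem H D _) h' with e | e
      · rw [← coord_zero H D] at e
        rw [neg_add_eq_sub] at e
        exact congrArg some (sub_eq_zero.1 (coord_injective H D e))
      · exact absurd e hy
  let F := Equiv.ofBijective f hf
  -- `s` fixes one further point
  have hs0 : s • x0 = x0 := QuotientGroup.eq.2 (by simpa using D.hs)
  obtain ⟨q, hq⟩ : ∃ q : Option (ZMod 3 × ZMod 3), F q = s • y := F.surjective _
  cases q with
  | none => exact hy (smul_left_cancel s ((hq.symm : s • y = x0).trans hs0.symm))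
  | some q =>
    have hqy : s • y = coord e1 e2 q • y := hq.symm
    have hss : ∀ p, s • (coord e1 e2 p • y) = coord e1 e2 ((-p.1, p.2) + q) • y := fun p => by
      rw [coord_add H D, mul_smul, ← hqy, ← mul_smul, ← mul_smul, ← s_coord H D, inv_mul_cancel_right]
    have hq2 : (-q.1, q.2) + q = 0 := by
      have h := hss q
      rw [← hqy, ← mul_smul, D.s2, one_smul] at h
      have h0 : F (some ((-q.1, q.2) + q)) = F (some 0) := by
        show coord e1 e2 ((-q.1, q.2) + q) • y = coord e1 e2 0 • y
        rw [← h, coord_zero H D, one_smul]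
      exact Option.some_inj.1 (F.injective h0)
    -- `s` is conjugate to a product of three transpositions
    let π : ∀ q : ZMod 3 × ZMod 3, Option (ZMod 3 × ZMod 3) → Option (ZMod 3 × ZMod 3) :=
      fun q o => o.map fun p => (-p.1, p.2) + q
    have hperm : ∀ o, σ s (F o) = F (π q o) := by
      rintro (_ | p)
      · exact hs0
      · exact hss p
    have hinv : Function.Involutive (π q) := by
      rintro (_ | p)
      · rfl
      · show some _ = some p
        congr 1
        refine Prod.ext ?_ ?_
        · show -(-p.1 + q.1) + q.1 = p.1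
          ring
        · have := congrArg Prod.snd hq2
          show p.2 + q.2 + q.2 = p.2
          rw [add_assoc, show q.2 + q.2 = 0 from this, add_zero]
    have hsign : Equiv.Perm.sign (σ s) = -1 := by
      have heq : σ s = F.permCongr hinv.toPerm := by
        ext x
        rw [Equiv.permCongr_apply, Function.Involutive.coe_toPerm, ← hperm, F.apply_symm_apply]
      rw [heq, Equiv.Perm.sign_permCongr]
      obtain ⟨q1, q2⟩ := q
      have hq20 : q2 = 0 :=
        (show ∀ x : ZMod 3, x + x = 0 → x = 0 by decide) q2 (congrArg Prod.snd hq2)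
      subst hq20
      exact (congrArg Equiv.Perm.sign (Equiv.ext fun _ => rfl :
        hinv.toPerm = shift q1)).trans (sign_shift q1)
    -- but a simple group has only even permutations
    let ψ : G →* ℤˣ := Equiv.Perm.sign.comp σ
    have hψ : ψ s = -1 := hsign
    rcases IsSimpleGroup.eq_bot_or_eq_top_of_normal ψ.ker inferInstance with h | h
    · have hinj : Function.Injective ψ := (MonoidHom.ker_eq_bot_iff ψ).1 h
      exact not_comm H D ⟨⟨fun a b => hinj (by rw [map_mul, map_mul, mul_comm])⟩⟩
    · have h1 : ψ s = 1 := by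
        rw [← MonoidHom.mem_ker, h]; exact Subgroup.mem_top s
      rw [hψ] at h1
      exact absurd h1 (by decide)

end D8

/-- The theorem. -/
theorem not_isSimple_of_D8 {G : Type u} [Group G] [Finite G] (M : Sylow 3 G)
    (hM9 : Nat.card ↥(M : Subgroup G) = 9)
    (hMel : ∀ m ∈ (M : Subgroup G), m ^ 3 = 1)
    (hCM : Subgroup.centralizer ((M : Subgroup G) : Set G) = (M : Subgroup G))
    (N : Subgroup G) (hN : N = Subgroup.normalizer ((M : Subgroup G) : Set G))
    (hCg : ∀ g ∈ (M : Subgroup G), g ≠ 1 → Subgroup.centralizer ({g} : Set G) ≤ N)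
    (hS : ∀ S : Sylow 2 ↥N, Nonempty (↥(S : Subgroup ↥N) ≃* DihedralGroup 4)) :
    ¬ IsSimpleGroup G := by
  intro hsimple
  haveI := Fintype.ofFinite G
  have H : Nine G (M : Subgroup G) := ⟨hM9, hMel, hCM, fun g hg h1 => hN ▸ hCg g hg h1, M, rfl⟩
  obtain ⟨e1, e2, r, s, D⟩ := exists_D8 H N hN hS
  exact D8.false_of_720 H D (D8.card_eq_720 H D)

end CfsgLib.CharsMore.NineTI
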